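import Cfsg.Agent.Lib.BrauerPairs.Setup
import Mathlib.RingTheory.Idempotents
import Mathlib.Algebra.CharP.Algebra
import Mathlib.Algebra.CharP.Lemmas
import Mathlib.RingTheory.Nilpotent.Basic
import Mathlib.LinearAlgebra.FiniteDimensional.Basic

/-!
# Block idempotents under a homomorphism with central `p`-group kernel
-/

set_option autoImplicit false
set_option linter.unusedSectionVars false
set_option maxHeartbeats 1000000

namespace CfsgLib.NormalEqual

open MonoidAlgebra CfsgLib.BrauerPairs

section Nakayama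

variable {k : Type*} [Field k] {R : Type*} [Ring R] [Algebra k R] {ι : Type*} {c : ι → R}

/-- A subspace contained in its products with nilpotent elements stabilising it vanishes. -/
theorem eq_bot_of_le_iSup (U : Submodule k R) (s : Finset ι) (hn : ∀ i ∈ s, IsNilpotent (c i))
    (hstab : ∀ i ∈ s, ∀ v ∈ U, c i * v ∈ U) (hc : ∀ i j, Commute (c i) (c j))
    (h : U ≤ ⨆ i ∈ s, U.map (LinearMap.mulLeft k (c i))) : U = ⊥ := by
  classical
  induction s using Finset.induction_on generalizing U with
  | empty => simpa using h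
  | @insert i s his ih =>
    set S := ⨆ j ∈ s, U.map (LinearMap.mulLeft k (c j)) with hS
    rw [Finset.iSup_insert, ← hS] at h
    have hiU : ∀ m : ℕ, U.map (LinearMap.mulLeft k (c i ^ m)) ≤ U := by
      intro m
      induction m with
      | zero => rintro _ ⟨v, hv, rfl⟩; simpa using hv
      | succ m ihm =>
        rintro _ ⟨v, hv, rfl⟩
        rw [LinearMap.mulLeft_apply, pow_succ', mul_assoc]
        exact hstab i (Finset.mem_insert_self i s) _ (ihm ⟨v, hv, rfl⟩)
    have hSc : S.map (LinearMap.mulLeft k (c i)) ≤ S := by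
      rw [hS, Submodule.map_iSup]
      refine iSup_mono fun j => ?_
      rw [Submodule.map_iSup]
      refine iSup_mono fun _ => ?_
      rintro _ ⟨_, ⟨v, hv, rfl⟩, rfl⟩
      refine ⟨c i * v, hstab i (Finset.mem_insert_self i s) v hv, ?_⟩
      simp only [LinearMap.mulLeft_apply, ← mul_assoc, (hc i j).eq]
    have hm : ∀ m : ℕ, U ≤ U.map (LinearMap.mulLeft k (c i ^ m)) ⊔ S := by
      intro m
      induction m with
      | zero => exact le_sup_of_le_left fun v hv => ⟨v, hv, by simp⟩
      | succ m ihm =>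
        refine h.trans (sup_le ?_ le_sup_right)
        refine (Submodule.map_mono ihm).trans ?_
        rw [Submodule.map_sup]
        refine sup_le_sup ?_ hSc
        rintro _ ⟨_, ⟨v, hv, rfl⟩, rfl⟩
        exact ⟨v, hv, by simp only [LinearMap.mulLeft_apply, pow_succ', mul_assoc]⟩
    obtain ⟨m, hm0⟩ := hn i (Finset.mem_insert_self i s)
    refine ih U (fun j hj => hn j (Finset.mem_insert_of_mem hj))
      (fun j hj => hstab j (Finset.mem_insert_of_mem hj)) ((hm m).trans (sup_le ?_ le_rfl))
    rintro _ ⟨v, -, rfl⟩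
    simp [hm0]

/-- A combination of central nilpotent elements is nilpotent. -/
theorem isNilpotent_sum_mul (s : Finset ι) (a : ι → R) (hn : ∀ i ∈ s, IsNilpotent (c i))
    (hcc : ∀ i ∈ s, ∀ x ∈ Algebra.adjoin k (Set.range c ∪ a '' s),
      Commute (c i) x) :
    IsNilpotent (∑ i ∈ s, c i * a i) := by
  classical
  induction s using Finset.induction_on with
  | empty => simp
  | @insert i s his ih =>
    obtain ⟨m, hm⟩ := ih (fun j hj => hn j (Finset.mem_insert_of_mem hj)) (fun j hj x hx =>
        hcc j (Finset.mem_insert_of_mem hj) x (Algebra.adjoin_mono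
          (Set.union_subset_union_right _ (Set.image_mono (by simp))) hx))
    rw [Finset.sum_insert his]
    set y := ∑ j ∈ s, c j * a j with hy
    set A := Algebra.adjoin k (Set.range c ∪ a '' (insert i s : Finset ι)) with hA
    have haA : ∀ j ∈ insert i s, a j ∈ A := fun j hj =>
      Algebra.subset_adjoin (Or.inr ⟨j, hj, rfl⟩)
    have hcA : ∀ j, c j ∈ A := fun j => Algebra.subset_adjoin (Or.inl ⟨j, rfl⟩)
    have hyA : y ∈ A := A.sum_mem fun j hj =>
      A.mul_mem (hcA j) (haA j (Finset.mem_insert_of_mem hj))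
    have hpow : ∀ j : ℕ, ∃ b ∈ A, (c i * a i + y) ^ j = y ^ j + c i * b := by
      intro j
      induction j with
      | zero => exact ⟨0, A.zero_mem, by simp⟩
      | succ j ihj =>
        obtain ⟨b, hb, hj⟩ := ihj
        refine ⟨y ^ j * a i + b * (c i * a i) + b * y,
          A.add_mem (A.add_mem (A.mul_mem (A.pow_mem hyA j) (haA i (Finset.mem_insert_self i s)))
            (A.mul_mem hb (A.mul_mem (hcA i) (haA i (Finset.mem_insert_self i s))))) (A.mul_mem hb hyA), ?_⟩
        have hcy : Commute (c i) (y ^ j) :=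
          hcc i (Finset.mem_insert_self i s) _ (A.pow_mem hyA j)
        rw [pow_succ, hj, pow_succ, add_mul, mul_add, mul_add,
          show y ^ j * (c i * a i) = c i * (y ^ j * a i) by rw [← mul_assoc, ← hcy.eq, mul_assoc]]
        simp only [mul_add, mul_assoc]
        abel
    obtain ⟨b, hb, hmb⟩ := hpow m
    rw [hm, zero_add] at hmb
    obtain ⟨l, hl⟩ := hn i (Finset.mem_insert_self i s)
    refine ⟨m * l, ?_⟩
    rw [pow_mul, hmb, (hcc i (Finset.mem_insert_self i s) b hb).mul_pow, hl, zero_mul]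

end Nakayama

variable {k : Type*} [Field k] {G : Type*} [Group G] [Fintype G] {H : Type*} [Group H]

theorem commute_single_of_mem_center {C : Subgroup G} {z : G} (hz : ∀ g ∈ C, g * z = z * g)
    {a : MonoidAlgebra k G} (ha : a ∈ suppAlg k C) : Commute (single z (1 : k)) a := by
  classical
  rw [← sum_coeff_single a, Finsupp.sum]
  refine Commute.sum_right _ _ _ fun g hg => ?_
  show _ * _ = _ * _
  rw [single_mul_single, single_mul_single, one_mul, mul_one,
    hz g (ha g (Finsupp.mem_support_iff.1 hg))]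

variable {p : ℕ} [hp : Fact p.Prime] [CharP k p]

theorem isNilpotent_single_sub_one {z : G} (hz : ∃ j, orderOf z = p ^ j) :
    IsNilpotent (single z (1 : k) - 1) := by
  obtain ⟨j, hj⟩ := hz
  haveI : CharP (MonoidAlgebra k G) p := charP_of_injective_algebraMap
    (algebraMap k (MonoidAlgebra k G)).injective p
  refine ⟨p ^ j, ?_⟩
  rw [sub_pow_char_pow_of_commute (p := p) j (Commute.one_right _), one_pow, single_pow, one_pow, ← hj,
    pow_orderOf_eq_one, ← one_def, sub_self]

/-- A block idempotent of `C` stays primitive under a homomorphism whose kernel on `C` is a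
central `p`-group. -/
theorem map_blockIdem (π : G →* H) {C : Subgroup G} (hZ : IsPGroup p (C ⊓ π.ker : Subgroup G))
    (hZc : ∀ z ∈ C ⊓ π.ker, ∀ g ∈ C, g * z = z * g) {e : MonoidAlgebra k G} (he : IsBlockIdem C e) :
    MonoidAlgebra.mapDomainRingHom k π e ≠ 0 ∧
      ∀ u : MonoidAlgebra k H, u * u = u → u ∈ suppAlg k (C.map π) →
        u ∈ fixAlg k (C.map π) →
        u * MonoidAlgebra.mapDomainRingHom k π e = 0 ∨
          u * MonoidAlgebra.mapDomainRingHom k π e = MonoidAlgebra.mapDomainRingHom k π e := by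
  classical
  set Z : Subgroup G := C ⊓ π.ker with hZdef
  let F := MonoidAlgebra.mapDomainRingHom k π
  let c : Z → MonoidAlgebra k G := fun z => single (z : G) (1 : k) - 1
  have hcA : ∀ z, c z ∈ suppAlg k C := fun z =>
    (suppAlg k C).sub_mem (single_mem_suppAlg z.2.1 1) (suppAlg k C).one_mem
  have hcomm : ∀ z : Z, ∀ a ∈ suppAlg k C, Commute (c z) a := fun z a ha =>
    (commute_single_of_mem_center (fun g hg => hZc z z.2 g hg) ha).sub_left (Commute.one_left a)
  have hnil : ∀ z : Z, IsNilpotent (c z) := fun z => isNilpotent_single_sub_one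
    (by simpa using IsPGroup.iff_orderOf.1 hZ z)
  let f : suppAlg k C →+* MonoidAlgebra k H := F.comp (suppAlg k C).val.toRingHom
  have hf : ∀ a, f a = F (a : MonoidAlgebra k G) := fun a => rfl
  -- a section
  have hs : ∀ h : H, ∃ g : G, g ∈ C ∧ (h ∈ C.map π → π g = h) := fun h => by
    by_cases hh : h ∈ C.map π
    · obtain ⟨g, hg, rfl⟩ := hh
      exact ⟨g, hg, fun _ => rfl⟩
    · exact ⟨1, C.one_mem, fun h' => absurd h' hh⟩
  choose s hsC hsπ using hs
  -- the kernel
  let J : Submodule k (MonoidAlgebra k G) :=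
    ⨆ z : Z, (suppAlg k C).toSubmodule.map (LinearMap.mulLeft k (c z))
  have hker : ∀ x ∈ suppAlg k C, F x = 0 → x ∈ J := by
    intro x hx hFx
    let σ : MonoidAlgebra k H →+ MonoidAlgebra k G :=
      { toFun := fun u => u.coeff.sum fun h r => single (s h) r
        map_zero' := by simp
        map_add' := fun u v => by
          rw [coeff_add]; exact Finsupp.sum_add_index' (by simp) (by simp) }
    have hσ : ∀ (h : H) (r : k), σ (single h r) = single (s h) r := fun h r => by
      show (single h r).coeff.sum _ = _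
      rw [coeff_single, Finsupp.sum_single_index]; simp
    suffices h : x - σ (F x) ∈ J by rwa [hFx, map_zero, sub_zero] at h
    conv => arg 2; rw [← sum_coeff_single x, Finsupp.sum]
    rw [map_sum, map_sum, ← Finset.sum_sub_distrib]
    refine J.sum_mem fun g hg => ?_
    have hgC := hx g (Finsupp.mem_support_iff.1 hg)
    have hF : F (single g (x.coeff g)) = single (π g) (x.coeff g) :=
      MonoidAlgebra.mapDomain_single
    rw [hF, hσ]
    set t := s (π g) with ht
    have hmem : g * t⁻¹ ∈ Z := ⟨C.mul_mem hgC (C.inv_mem (hsC _)), by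
      show g * t⁻¹ ∈ π.ker
      rw [MonoidHom.mem_ker, map_mul, map_inv, ht, hsπ _ ⟨g, hgC, rfl⟩, mul_inv_cancel]⟩
    refine le_iSup (fun z : Z => (suppAlg k C).toSubmodule.map (LinearMap.mulLeft k (c z)))
      ⟨_, hmem⟩ ⟨single t (x.coeff g), single_mem_suppAlg (hsC _) _, ?_⟩
    rw [LinearMap.mulLeft_apply, sub_mul, one_mul, single_mul_single, one_mul,
      inv_mul_cancel_right]
  have hkerNil : ∀ a ∈ RingHom.ker f, IsNilpotent a := by
    intro a ha
    rw [RingHom.mem_ker, hf] at ha
    have h := hker a a.2 ha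
    rw [Submodule.mem_iSup_iff_exists_finsupp] at h
    obtain ⟨v, hv, hva⟩ := h
    choose w hw hwv using hv
    suffices hn : IsNilpotent (a : MonoidAlgebra k G) by
      obtain ⟨n, hn⟩ := hn
      exact ⟨n, Subtype.ext (by rw [SubmonoidClass.coe_pow, hn, ZeroMemClass.coe_zero])⟩
    rw [← hva, Finsupp.sum, Finset.sum_congr rfl fun z _ => (hwv z).symm]
    refine isNilpotent_sum_mul (k := k) (c := c) v.support w (fun z _ => hnil z)
      fun z _ y hy => hcomm z y ?_
    refine Algebra.adjoin_le ?_ hy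
    rintro _ (⟨j, rfl⟩ | ⟨j, -, rfl⟩)
    · exact hcA j
    · exact hw j
  have hne : F e ≠ 0 := fun h => he.ne_zero (eq_zero_of_nilpotent_idem
    (by
      obtain ⟨n, hn⟩ := hkerNil ⟨e, he.supp⟩ (show f _ = 0 from h)
      exact ⟨n, congrArg Subtype.val hn⟩) he.idem)
  refine ⟨hne, fun u hu hus huf => ?_⟩
  -- a lift
  have hrange : u ∈ f.range := by
    refine ⟨⟨∑ h ∈ u.coeff.support, single (s h) (u.coeff h),
      (suppAlg k C).sum_mem fun h _ => single_mem_suppAlg (hsC h) _⟩, ?_⟩
    rw [hf]
    conv_rhs => rw [← sum_coeff_single u, Finsupp.sum]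
    rw [map_sum]
    refine Finset.sum_congr rfl fun h hh => ?_
    show MonoidAlgebra.mapDomain π (single (s h) (u.coeff h)) = _
    rw [MonoidAlgebra.mapDomain_single, hsπ h (hus h (Finsupp.mem_support_iff.1 hh))]
  obtain ⟨⟨w, hwA⟩, hw2, hwu⟩ := exists_isIdempotentElem_eq_of_ker_isNilpotent f hkerNil u hrange hu
  have hw : w * w = w := congrArg Subtype.val hw2
  have hFw : F w = u := hwu
  -- the lift is central
  have hucomm : ∀ a ∈ suppAlg k C, u * F a = F a * u := by
    intro a ha
    rw [← sum_coeff_single a, Finsupp.sum, map_sum, Finset.mul_sum, Finset.sum_mul]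
    refine Finset.sum_congr rfl fun g hg => ?_
    have hgC := ha g (Finsupp.mem_support_iff.1 hg)
    show u * MonoidAlgebra.mapDomain π (single g _) = MonoidAlgebra.mapDomain π (single g _) * u
    rw [MonoidAlgebra.mapDomain_single]
    ext y
    rw [coeff_mul_single_apply, coeff_single_mul_apply, mul_comm (a.coeff g)]
    congr 1
    have h := mem_fixAlg_iff_coeff.1 huf (π g) ⟨g, hgC, rfl⟩ ((π g)⁻¹ * y)
    rwa [← mul_assoc, mul_inv_cancel, one_mul] at h
  have hcentral : ∀ w₁ w₂ : MonoidAlgebra k G, w₁ ∈ suppAlg k C → w₂ ∈ suppAlg k C →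
      w₁ * w₁ = w₁ → w₂ * w₂ = w₂ → (∀ a ∈ suppAlg k C, F (w₁ * a * w₂) = 0) →
      ∀ a ∈ suppAlg k C, w₁ * a * w₂ = 0 := by
    intro w₁ w₂ h1 h2 h11 h22 h0 a ha
    let U : Submodule k (MonoidAlgebra k G) := (suppAlg k C).toSubmodule.map
      ((LinearMap.mulRight k w₂).comp (LinearMap.mulLeft k w₁))
    suffices hU : U = ⊥ by
      have : w₁ * a * w₂ ∈ U := ⟨a, ha, rfl⟩
      rwa [hU, Submodule.mem_bot] at this
    refine eq_bot_of_le_iSup (c := c) U Finset.univ (fun z _ => hnil z) (fun z _ v hv => ?_)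
      (fun z z' => hcomm z _ (hcA z')) ?_
    · obtain ⟨b, hb, rfl⟩ := hv
      refine ⟨c z * b, (suppAlg k C).mul_mem (hcA z) hb, ?_⟩
      simp only [LinearMap.comp_apply, LinearMap.mulLeft_apply, LinearMap.mulRight_apply, ← mul_assoc,
        (hcomm z w₁ h1).eq]
    · intro v hv
      obtain ⟨b, hb, rfl⟩ := hv
      simp only [LinearMap.comp_apply, LinearMap.mulLeft_apply, LinearMap.mulRight_apply]
      have hmem : w₁ * b * w₂ ∈ suppAlg k C :=
        (suppAlg k C).mul_mem ((suppAlg k C).mul_mem h1 hb) h2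
      have hJ := hker _ hmem (h0 b hb)
      have hmap : J.map ((LinearMap.mulRight k w₂).comp (LinearMap.mulLeft k w₁)) ≤
          ⨆ z ∈ (Finset.univ : Finset Z), U.map (LinearMap.mulLeft k (c z)) := by
        rw [Submodule.map_iSup]
        refine iSup_le fun z => ?_
        refine le_iSup₂_of_le z (Finset.mem_univ z) ?_
        rintro _ ⟨_, ⟨d, hd, rfl⟩, rfl⟩
        refine ⟨w₁ * d * w₂, ⟨d, hd, rfl⟩, ?_⟩
        simp only [LinearMap.comp_apply, LinearMap.mulLeft_apply, LinearMap.mulRight_apply, ← mul_assoc,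
          (hcomm z w₁ h1).eq]
      refine hmap ⟨w₁ * b * w₂, hJ, ?_⟩
      simp only [LinearMap.comp_apply, LinearMap.mulLeft_apply, LinearMap.mulRight_apply, ← mul_assoc,
        h11]
      rw [mul_assoc _ w₂ w₂, h22]
  have hw' : (1 - w) * (1 - w) = 1 - w := by rw [sub_mul, one_mul, mul_sub, mul_one, hw, sub_self, sub_zero]
  have h1w : 1 - w ∈ suppAlg k C := (suppAlg k C).sub_mem (suppAlg k C).one_mem hwA
  have e1 : ∀ a ∈ suppAlg k C, w * a * (1 - w) = 0 := hcentral w (1 - w) hwA h1w hw hw' fun a ha => by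
    rw [map_mul, map_mul, map_sub, map_one, hFw, hucomm a ha, mul_assoc, mul_sub, mul_one, hu,
      sub_self, mul_zero]
  have e2 : ∀ a ∈ suppAlg k C, (1 - w) * a * w = 0 := hcentral (1 - w) w h1w hwA hw' hw fun a ha => by
    rw [map_mul, map_mul, map_sub, map_one, hFw, mul_assoc, ← hucomm a ha, ← mul_assoc, sub_mul,
      one_mul, hu, sub_self, zero_mul]
  have hwfix : w ∈ fixAlg k C := by
    intro g hg
    have hgA := single_mem_suppAlg (k := k) hg 1
    have h3 := e1 _ hgA
    have h4 := e2 _ hgA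
    rw [mul_sub, mul_one, sub_eq_zero] at h3
    rw [sub_mul, one_mul, sub_mul, sub_eq_zero] at h4
    rw [conjA, h4, ← h3, mul_assoc, single_mul_single_inv, mul_one]
  rcases he.mul_idem hwA hwfix hw with h | h
  · left; rw [← hFw, ← map_mul, h, map_zero]
  · right; rw [← hFw, ← map_mul, h]

end CfsgLib.NormalEqual
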