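import Cfsg.Agent.Lib.BrauerPairs.Bridge
import Cfsg.Agent.Lib.BrauerPairs.Pairs
import Cfsg.Agent.Lib.BrauerPairs.Induced

/-!
# Nilpotency of a block with a normal defect group

If every `p`-regular element fixing the root block `e` centralises the normal defect group `D`,
the block is nilpotent.
-/

set_option autoImplicit false
set_option linter.unusedSectionVars false
set_option maxHeartbeats 1000000

namespace CfsgLib.NormalEqual

open Cfsg MonoidAlgebra CfsgLib.BrauerPairs

section Orbit

variable {k : Type*} [Field k] {G : Type*} [Group G] [Fintype G]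

/-- The sum of the distinct conjugates of `e` under `H`. -/
noncomputable def orbitSum (H : Subgroup G) (e : MonoidAlgebra k G) : MonoidAlgebra k G :=
  ∑ a ∈ (Set.finite_range fun h : H => conjA (h : G) e).toFinset, a

variable {H C : Subgroup G} {e : MonoidAlgebra k G}

theorem conjA_orbitSum {g : G} (hg : g ∈ Subgroup.normalizer (H : Set G))
    (hge : ∃ h ∈ H, conjA g e = conjA h e) : conjA g (orbitSum H e) = orbitSum H e := by
  classical
  obtain ⟨h₀, hh₀, hge⟩ := hge
  rw [orbitSum, conjA_sum]
  set S := (Set.finite_range fun h : H => conjA (h : G) e).toFinset with hS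
  have hmaps : ∀ a ∈ S, conjA g a ∈ S := by
    intro a ha
    obtain ⟨h, rfl⟩ := (Set.Finite.mem_toFinset _).1 ha
    have hh : g * h * g⁻¹ ∈ H := (Subgroup.mem_normalizer_iff.1 hg _).1 h.2
    refine (Set.Finite.mem_toFinset _).2 ⟨⟨g * h * g⁻¹ * h₀, H.mul_mem hh hh₀⟩, ?_⟩
    show conjA (g * h * g⁻¹ * h₀) e = conjA g (conjA (h : G) e)
    rw [conjA_mul_left, ← hge, ← conjA_mul_left, ← conjA_mul_left, inv_mul_cancel_right]
  have himg : S.image (conjA g) = S :=
    Finset.eq_of_subset_of_card_le (Finset.image_subset_iff.2 hmaps)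
      (Finset.card_image_of_injective _ (fun a b h => conjA_inj h)).ge
  conv_rhs => rw [← himg, Finset.sum_image fun a _ b _ h => conjA_inj h]

theorem orbitSum_fixed : orbitSum H e ∈ fixAlg k H := fun g hg =>
  conjA_orbitSum (Subgroup.le_normalizer hg) ⟨g, hg, rfl⟩

theorem isBlockIdem_conj (he : IsBlockIdem C e) {g : G} (hg : g ∈ Subgroup.normalizer (C : Set G)) :
    IsBlockIdem C (conjA g e) := by
  have := he.conjA g
  rwa [map_conj_eq_self hg] at this

variable (he : IsBlockIdem C e) (hH : H ≤ Subgroup.normalizer (C : Set G))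
include he hH

theorem orbitSum_supp : orbitSum H e ∈ suppAlg k C := by
  classical
  refine (suppAlg k C).sum_mem fun a ha => ?_
  obtain ⟨h, rfl⟩ := (Set.Finite.mem_toFinset _).1 ha
  exact (isBlockIdem_conj he (hH h.2)).supp

theorem orbitSum_mul_conj {h : G} (hh : h ∈ H) :
    orbitSum H e * conjA h e = conjA h e := by
  classical
  rw [orbitSum, Finset.sum_mul, Finset.sum_eq_single (conjA h e)]
  · exact (isBlockIdem_conj he (hH hh)).idem
  · intro a ha hne
    obtain ⟨h', rfl⟩ := (Set.Finite.mem_toFinset _).1 ha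
    exact (isBlockIdem_conj he (hH h'.2)).mul_eq_zero (isBlockIdem_conj he (hH hh)) hne
  · exact fun h' => absurd ((Set.Finite.mem_toFinset (Set.finite_range fun h : H => conjA (h : G) e)).2 ⟨⟨h, hh⟩, rfl⟩) h'

theorem orbitSum_mul_self : orbitSum H e * e = e := by
  have h := orbitSum_mul_conj he hH H.one_mem
  rwa [conjA_one_left] at h

theorem orbitSum_idem : orbitSum H e * orbitSum H e = orbitSum H e := by
  classical
  conv_lhs => arg 2; rw [orbitSum]
  conv_rhs => rw [orbitSum]
  rw [Finset.mul_sum]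
  refine Finset.sum_congr rfl fun a ha => ?_
  obtain ⟨h, rfl⟩ := (Set.Finite.mem_toFinset _).1 ha
  exact orbitSum_mul_conj he hH h.2

theorem orbitSum_mul_eq_zero {f : MonoidAlgebra k G} (hf : IsBlockIdem C f)
    (hne : ∀ h ∈ H, conjA h e ≠ f) : orbitSum H e * f = 0 := by
  classical
  rw [orbitSum, Finset.sum_mul]
  refine Finset.sum_eq_zero fun a ha => ?_
  obtain ⟨h, rfl⟩ := (Set.Finite.mem_toFinset _).1 ha
  exact (isBlockIdem_conj he (hH h.2)).mul_eq_zero hf (hne h h.2)

end Orbit

section Pairs

variable {k : Type*} [Field k] {G : Type*} [Group G] [Fintype G] {p : ℕ} [hp : Fact p.Prime]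
  [CharP k p]

/-- A block below `(D, e)` has nonzero product with `e`. -/
theorem mul_ne_zero_of_pairLE {D Q : Subgroup G} {a e : MonoidAlgebra k G}
    (he : IsBlockIdem (cz D) e) (h : PairLE p (Q, a) (D, e)) :
    a * e ≠ 0 := by
  suffices key : ∀ x : Subgroup G × MonoidAlgebra k G, PairLE p x (D, e) → x.2 * e ≠ 0 from
    key _ h
  intro x hx
  induction hx using Relation.ReflTransGen.head_induction_on with
  | refl => rw [he.idem]; exact he.ne_zero
  | @head x y hxy hy ih =>
    intro hae
    apply ih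
    have hyD : y.1 ≤ D := PairLE.le hy
    have hesupp : e ∈ suppAlg k (cz y.1) := fun g hg => cz_anti hyD (he.supp g hg)
    have hefix : e ∈ fixAlg k y.1 := fixed_of_supp_cz hesupp
    have h1 : brMap k y.1 (x.2 * e) = brMap k y.1 x.2 * e := by
      rw [brMap_mul hxy.pgroup_right hxy.fixed hefix, brMap_eq_self hesupp]
    rw [hae, map_zero] at h1
    have hcomm : e * y.2 = y.2 * e := (commute_of_supp_fix hesupp hxy.block_right.fixed).eq
    calc y.2 * e = brMap k y.1 x.2 * (y.2 * e) := by rw [← mul_assoc, hxy.cover]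
      _ = brMap k y.1 x.2 * e * y.2 := by rw [← hcomm, mul_assoc]
      _ = 0 := by rw [← h1, zero_mul]

end Pairs

variable {G : Type*} [Group G] [Fintype G] {p : ℕ} [hp : Fact p.Prime] {M : Ideal AlgInt}
  [M.IsMaximal]

/-- The criterion. -/
theorem nilpotent_of_regular_stab (hM : IsPModular p M) {B : Set (IrrCharacter G)}
    (hB : IsPBlock M B) {D : Subgroup G} [hDn : D.Normal] (hD : IsDefectGroup p M B D)
    {e : MonoidAlgebra (ResK M) G} (he : IsBlockIdem (cz D) e)
    (hcov : brMap (ResK M) D (eG hM B) * e = e)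
    (hreg : ∀ g : G, ¬ p ∣ orderOf g → conjA g e = e → g ∈ cz D) :
    IsNilpotentBlock p M B := by
  classical
  have := charP_res hM
  refine ⟨hB, fun Q f hQf x hxN hxs hx => ?_⟩
  obtain ⟨hf, -, hO⟩ := (isBrauerPairOf_iff hM B Q f).1 hQf
  have hD0 := (isDefectGroup_iff hM hB D).1 hD
  obtain ⟨t, -, ht⟩ := (brSetup_block hM hB).exists_conj_le (hasBlocks hM) hO hD0
    ⟨hD0.pgroup, bot_le, le_top, he, hcov⟩
  have hxa : conjA x (eA hM (cz Q) f) = eA hM (cz Q) f :=
    (stabilizesBlock_iff_conjA hM (normalizer_le_normalizer_cz Q hxN) hf).1 hxs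
  set R := Q.map (MulAut.conj t).toMonoidHom with hR
  set a := conjA t (eA hM (cz Q) f) with ha
  set y := t * x * t⁻¹ with hy
  have hab : IsBlockIdem (cz R) a := by
    rw [hR, cz_map_conj]
    exact (isBlockIdem_eA hM hf).conjA t
  have hya : conjA y a = a := by
    rw [hy, ha, ← conjA_mul_left, show t * x * t⁻¹ * t = t * x by group, conjA_mul_left, hxa]
  have hyN : y ∈ Subgroup.normalizer (R : Set G) := by
    have hmap : R.map (MulAut.conj y).toMonoidHom = R := by
      rw [hR, Subgroup.map_map]
      conv_rhs => rw [← map_conj_eq_self hxN, Subgroup.map_map]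
      congr 1
      ext z
      simp [hy, mul_assoc]
    refine Subgroup.mem_normalizer_iff.2 fun z => ⟨fun hz => hmap.le ⟨z, hz, rfl⟩, fun hz => ?_⟩
    rw [← hmap] at hz
    obtain ⟨w, hw, hwz⟩ := hz
    have : y * w * y⁻¹ = y * z * y⁻¹ := hwz
    rwa [← mul_left_cancel (mul_right_cancel this)]
  suffices hmain : y ∈ cz R by
    rw [hR, cz_map_conj] at hmain
    obtain ⟨w, hw, hwy⟩ := hmain
    have : t * w * t⁻¹ = t * x * t⁻¹ := hwy
    rwa [← mul_left_cancel (mul_right_cancel this)]
  have hle : PairLE p (R, a) (D, e) := ht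
  have hRD : R ≤ D := PairLE.le hle
  have hae : a * e ≠ 0 := mul_ne_zero_of_pairLE he hle
  -- `e` and its conjugate lie below `a`, so are conjugate under `C(R)`
  have hN : ∀ g : G, g ∈ Subgroup.normalizer (cz D : Set G) := fun g =>
    normalizer_le_normalizer_cz D (by rw [Subgroup.normalizer_eq_top]; exact Subgroup.mem_top g)
  have hH : cz R ≤ Subgroup.normalizer (cz D : Set G) := fun g _ => hN g
  have hconj : IsBlockIdem (cz D) (conjA y e) := isBlockIdem_conj he (hN y)
  obtain ⟨c, hc, hce⟩ : ∃ c ∈ cz R, conjA c e = conjA y e := by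
    by_contra hcon
    push Not at hcon
    set z := orbitSum (cz R) e with hz
    have hzs : z ∈ suppAlg (ResK M) (cz R) := fun g hg =>
      cz_anti hRD (orbitSum_supp he hH g hg)
    have h0 : z * conjA y e = 0 := orbitSum_mul_eq_zero he hH hconj hcon
    have hza : z * a = a := by
      refine (hab.mul_idem hzs orbitSum_fixed (orbitSum_idem he hH)).resolve_left fun h => hae ?_
      rw [← orbitSum_mul_self he hH, ← mul_assoc,
        (commute_of_supp_fix hab.supp orbitSum_fixed).eq, h, zero_mul]
    have h1 : a * conjA y e = conjA y (a * e) := by rw [conjA_mul, hya]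
    have h2 : a * conjA y e = 0 := by
      rw [← hza, ← (commute_of_supp_fix hab.supp (orbitSum_fixed (H := cz R) (e := e))).eq,
        mul_assoc, h0, mul_zero]
    rw [h1] at h2
    exact hae (conjA_inj (g := y) (h2.trans (conjA_zero y).symm))
  set u := c⁻¹ * y with hu
  have hue : conjA u e = e := by
    rw [hu, conjA_mul_left, ← hce, ← conjA_mul_left, inv_mul_cancel, conjA_one_left]
  -- a power of `u` of `p`-power exponent is regular
  set m := p ^ (orderOf u).factorization p with hm
  have hum : u ^ m ∈ cz D := by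
    refine hreg _ ?_ ?_
    · rw [orderOf_pow' u (pow_ne_zero _ hp.out.ne_zero),
        Nat.gcd_eq_right (Nat.ordProj_dvd (orderOf u) p)]
      exact Nat.not_dvd_ordCompl hp.out (orderOf_pos u).ne'
    · have : ∀ j : ℕ, conjA (u ^ j) e = e := fun j => by
        induction j with
        | zero => rw [pow_zero, conjA_one_left]
        | succ j ih => rw [pow_succ, conjA_mul_left, hue, ih]
      exact this m
  have hyu : ∀ j : ℕ, y ^ j * (u ^ j)⁻¹ ∈ cz R := by
    intro j
    induction j with
    | zero => simp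
    | succ j ih =>
      have hyj : y ^ (j + 1) * (u ^ (j + 1))⁻¹ = y * (y ^ j * (u ^ j)⁻¹) * u⁻¹ := by
        rw [pow_succ', pow_succ u j]; group
      rw [hyj, show y * (y ^ j * (u ^ j)⁻¹) * u⁻¹ = y * (y ^ j * (u ^ j)⁻¹) * y⁻¹ * c by
        rw [hu]; group]
      exact (cz R).mul_mem ((Subgroup.mem_normalizer_iff.1
        (normalizer_le_normalizer_cz R hyN) _).1 ih) hc
  have hym : y ^ m ∈ cz R := by
    have h := (cz R).mul_mem (hyu m) (cz_anti hRD hum)
    rwa [inv_mul_cancel_right] at h
  have hyord : orderOf y = orderOf x := (MulAut.conj t).orderOf_eq x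
  obtain ⟨i, hi⟩ := exists_pow_eq_self_of_coprime (x := y) (n := m) (by
    rw [hyord]; exact Nat.Coprime.pow_left _ (hp.out.coprime_iff_not_dvd.2 hx))
  rw [← hi]
  exact (cz R).pow_mem hym i

end CfsgLib.NormalEqual
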