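import Cfsg.Agent.Lib.NormalEqual.Quotient
import Cfsg.Agent.Lib.NilBlk.Main

/-!
# Equal degrees of height zero for a normal defect group, and nilpotency
-/

set_option autoImplicit false
set_option linter.unusedSectionVars false
set_option linter.style.haveILetI false

namespace CfsgLib.NormalEqual

open Cfsg MonoidAlgebra CfsgLib.BrauerPairs

universe u

variable {G : Type u} [Group G] [Fintype G] {p : ℕ} [hp : Fact p.Prime] {M : Ideal AlgInt}

/-- The characters of height zero of a nilpotent block have one degree. -/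
theorem const_of_nilpotent (hM : IsPModular p M) {B : Set (IrrCharacter G)}
    (hnil : IsNilpotentBlock p M B) :
    ∃ d : ℕ, ∀ χ : IrrCharacter G, χ ∈ B → blockHeight p B (χ : G → ℂ) = 0 →
      charDegree (χ : G → ℂ) = d := by
  have := hM.2.1
  obtain ⟨D, hD⟩ := BrauerPairs.exists_defectGroup hM hnil.1
  obtain ⟨e, he⟩ := NilBlk.exists_maximalPair hM hnil.1 hD
  obtain ⟨χ₀, -, Φ, hΦ⟩ := NilBlk.exists_equiv (NilBlk.nilCtx_of_nilpotent hM hnil he)
  refine ⟨charDegree (χ₀ : G → ℂ), fun χ hχ h0 => ?_⟩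
  obtain ⟨lam, hlam⟩ := Φ.surjective ⟨χ, hχ⟩
  obtain ⟨hh, hdeg⟩ := hΦ lam
  rw [hlam, h0] at hh
  obtain ⟨n, hn⟩ := (BlockCover.isPGroup_defect hM hD).exists_card_eq
  obtain ⟨i, -, hi⟩ := (Nat.dvd_prime_pow hp.out).1
    (hn ▸ CharCorr.charDegree_irr_dvd_card lam)
  rw [hi, hp.out.factorization_pow, Finsupp.single_eq_same] at hh
  subst hh
  have h1 := hdeg 1
  have hr : IsPRegular p (1 : G) := by rw [IsPRegular, orderOf_one]; exact hM.1.not_dvd_one
  rw [hlam, hi, pow_zero, Nat.cast_one, one_mul, pRegularPart, pRegularPart, if_pos hr, if_pos hr,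
    CharCorr.irr_one_eq_charDegree, CharCorr.irr_one_eq_charDegree] at h1
  exact_mod_cast h1

/-- Equal degrees at height zero force nilpotency, given this for abelian defect groups of
quotients. -/
theorem nilpotent_of_const (hM : IsPModular p M) {B : Set (IrrCharacter G)} (hB : IsPBlock M B)
    {D : Subgroup G} [hDn : D.Normal] (hD : IsDefectGroup p M B D)
    (hstep : ∀ (N : Subgroup G) [N.Normal] (Bbar : Set (IrrCharacter (G ⧸ N)))
      (Db : Subgroup (G ⧸ N)), IsPBlock M Bbar → IsDefectGroup p M Bbar Db → IsMulCommutative Db →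
      (∀ χ : IrrCharacter (G ⧸ N), χ ∈ Bbar → blockHeight p Bbar (χ : G ⧸ N → ℂ) = 0) →
      (∃ d : ℕ, ∀ χ : IrrCharacter (G ⧸ N), χ ∈ Bbar → charDegree (χ : G ⧸ N → ℂ) = d) →
      IsNilpotentBlock p M Bbar)
    (heq : ∃ d : ℕ, ∀ χ : IrrCharacter G, χ ∈ B → blockHeight p B (χ : G → ℂ) = 0 →
      charDegree (χ : G → ℂ) = d) : IsNilpotentBlock p M B := by
  classical
  haveI := hM.2.1
  have := charP_res hM
  have hD0 := (isDefectGroup_iff hM hB D).1 hD
  have hE := isBlockIdem_eG hM hB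
  have hfix : eG hM B ∈ fixAlg (ResK M) D := fixAlg_anti le_top hE.fixed
  obtain ⟨e, he, hcov⟩ := exists_block_le (hasBlocks hM) (brMap_mem_suppAlg D (eG hM B))
    (brMap_mem_fixAlg (cz_le_normalizer D) (fixAlg_anti le_top hE.fixed))
    (by rw [← brMap_mul hD0.pgroup hfix hfix, hE.idem]) hD0.br_ne
  refine nilpotent_of_regular_stab hM hB hD he hcov fun g hg hge =>
    regular_stab_le hM hB hD he hcov (fun Bbar hBbar hDb hinfl => ?_) hg hge
  set N : Subgroup G := ⁅D, D⁆
  letI : Fintype (G ⧸ N) := Fintype.ofFinite _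
  haveI : (D.map (QuotientGroup.mk' N)).Normal := hDn.map _ (QuotientGroup.mk'_surjective N)
  have hab : ∀ a ∈ D.map (QuotientGroup.mk' N), ∀ b ∈ D.map (QuotientGroup.mk' N),
      a * b = b * a := by
    rintro _ ⟨a, ha, rfl⟩ _ ⟨b, hb, rfl⟩
    have h1 : QuotientGroup.mk' N (a * b * a⁻¹ * b⁻¹) = 1 :=
      (QuotientGroup.eq_one_iff _).2 (Subgroup.commutator_mem_commutator ha hb)
    rwa [map_mul, map_mul, map_inv, map_inv, mul_inv_eq_one, mul_inv_eq_iff_eq_mul] at h1
  have hh0 := (CentralDefect.comm_iff_height_zero hM hBbar hDb).1 hab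
  refine hstep N Bbar _ hBbar hDb ⟨⟨fun a b => Subtype.ext (hab a a.2 b b.2)⟩⟩ hh0 ?_
  obtain ⟨d, hd⟩ := heq
  refine ⟨d, fun η hη => ?_⟩
  have hdeg : charDegree (Chars17.infl N η : G → ℂ) = charDegree (η : G ⧸ N → ℂ) := by
    apply Nat.cast_injective (R := ℂ)
    rw [← CharCorr.irr_one_eq_charDegree, ← CharCorr.irr_one_eq_charDegree, Chars17.infl_apply,
      QuotientGroup.mk_one]
  rw [← hdeg]
  refine hd _ (hinfl η hη) ?_
  -- the least `p`-part is the same
  have e1 := Contribution.minExp_add_defect hM hB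
  have e2 : Contribution.minExp p Bbar + blockDefect p Bbar = (Nat.card (G ⧸ N)).factorization p :=
    Contribution.minExp_add_defect hM hBbar
  have hle : N ≤ D := Subgroup.commutator_le.2 fun a ha b hb =>
    D.mul_mem (D.mul_mem (D.mul_mem ha hb) (D.inv_mem ha)) (D.inv_mem hb)
  obtain ⟨c, hc⟩ := ((BlockCover.isPGroup_defect hM hD).to_le hle).exists_card_eq
  have hcardD : Nat.card (D.map (QuotientGroup.mk' N)) * Nat.card N = Nat.card D := by
    have h := Subgroup.relIndex_map_map (QuotientGroup.mk' N) (⊥ : Subgroup G) D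
    rw [QuotientGroup.ker_mk', bot_sup_eq, Subgroup.map_bot, Subgroup.relIndex_bot_left,
      sup_eq_left.2 hle] at h
    rw [h, ← Subgroup.relIndex_bot_left N, ← Subgroup.relIndex_bot_left D, mul_comm,
      Subgroup.relIndex_mul_relIndex _ _ _ bot_le hle]
  rw [BlockCover.natCard_defect hM hBbar hDb, BlockCover.natCard_defect hM hB hD, hc, ← pow_add]
    at hcardD
  have hdd := Nat.pow_right_injective hp.out.two_le hcardD
  have hG : (Nat.card G).factorization p = (Nat.card (G ⧸ N)).factorization p + c := by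
    rw [N.card_eq_card_quotient_mul_card_subgroup, hc,
      Nat.factorization_mul Nat.card_pos.ne' (pow_ne_zero _ hp.out.ne_zero), Finsupp.add_apply,
      hp.out.factorization_pow, Finsupp.single_eq_same]
  have hη0 := hh0 η hη
  simp only [blockHeight, Contribution.minExp] at hη0 e1 e2 ⊢
  rw [hdeg]
  omega

end CfsgLib.NormalEqual
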