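import Cfsg.Agent.Lib.NormalEqual.CentralKernel
import Cfsg.Agent.Lib.NormalEqual.Fusion
import Cfsg.Agent.Lib.BlockCover.Quotient
import Cfsg.Agent.Lib.BlockCover.NormalDefect
import Cfsg.Agent.Lib.Blocks.NormalPSubgroup
import Cfsg.Agent.Lib.Blocks.Brauer
import Cfsg.Agent.Lib.Blk7.CentralQuotient
import Cfsg.Agent.Lib.Coprime.Commutator
import Cfsg.Agent.Lib.PGroup.Frattini
import Cfsg.Agent.Lib.Blocks12.Basic
import Cfsg.Agent.Lib.ModRep.Main

/-!
# Equal degrees of height zero and a normal defect group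

Modulo the derived group of the defect group `D` the block has a block with abelian defect group
all whose characters come from characters of height zero; if that block is nilpotent, every
`p`-regular element fixing the root block centralises `D`.
-/

set_option autoImplicit false
set_option linter.unusedSectionVars false
set_option linter.style.haveILetI false
set_option maxHeartbeats 1000000

namespace CfsgLib.NormalEqual

open Cfsg MonoidAlgebra CfsgLib.BrauerPairs
open CfsgLib.Characters
open scoped ComplexConjugate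

universe u

variable {G : Type u} [Group G] [Fintype G] {p : ℕ} [hp : Fact p.Prime] {M : Ideal AlgInt}

/-- The inflated characters of `B`. -/
def downSet (N : Subgroup G) [N.Normal] (B : Set (IrrCharacter G)) : Set (IrrCharacter (G ⧸ N)) :=
  {η | Chars17.infl N η ∈ B}

theorem sum_blockCoeff_coset (N : Subgroup G) [N.Normal] [Fintype N] (B : Set (IrrCharacter G))
    (x : G) : ∑ n : N, blockCoeff B ((n : G) * x) = blockCoeff (downSet N B) (x : G ⧸ N) := by
  classical
  letI : Fintype (G ⧸ N) := Fintype.ofFinite _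
  simp only [Blocks.blockCoeff_eq_sum]
  rw [← Finset.mul_sum, Finset.sum_comm]
  have h1 : ∀ χ : IrrCharacter G, ∑ n : N, (χ : G → ℂ) 1 * conj ((χ : G → ℂ) ((n : G) * x)) =
      if N ≤ Chars17.irrKer χ then (Nat.card N : ℂ) * ((χ : G → ℂ) 1 * conj ((χ : G → ℂ) x))
      else 0 := by
    intro χ
    rw [← Finset.mul_sum, ← map_sum, BlockCover.sum_coset_eq]
    split_ifs <;> simp [mul_left_comm]
  rw [Finset.sum_congr rfl (fun χ _ => h1 χ), ← Finset.sum_filter, Finset.filter_filter]
  have h2 : Finset.univ.filter (fun χ : IrrCharacter G => χ ∈ B ∧ N ≤ Chars17.irrKer χ) =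
      (Finset.univ.filter (fun χ : IrrCharacter G => N ≤ Chars17.irrKer χ)).filter (· ∈ B) := by
    ext χ; simp [and_comm]
  rw [h2, Finset.sum_filter, Chars17.sum_filter_le_irrKer, ← Finset.sum_filter,
    ← N.card_mul_index]
  simp only [Chars17.infl_apply, QuotientGroup.mk_one, ← Finset.mul_sum]
  rw [Subgroup.index, Nat.cast_mul, ← mul_assoc, mul_inv, mul_comm (Nat.card N : ℂ)⁻¹,
    mul_assoc ((Nat.card (G ⧸ N) : ℂ)⁻¹), inv_mul_cancel₀ (by simp), mul_one]
  rfl

variable [M.IsMaximal]

theorem blockCoeff_downSet_mem (hM : IsPModular p M) (N : Subgroup G) [N.Normal]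
    {B : Set (IrrCharacter G)} (hB : IsPBlock M B) (q : G ⧸ N) :
    blockCoeff (downSet N B) q ∈ Blocks.lRing hM := by
  classical
  obtain ⟨x, rfl⟩ := QuotientGroup.mk_surjective q
  rw [← sum_blockCoeff_coset N B x]
  exact Subring.sum_mem _ fun n _ => blockCoeff_mem hM hB _

/-- The image of the idempotent of a block is that of its inflated characters. -/
theorem mapDomain_eG (hM : IsPModular p M) (N : Subgroup G) [N.Normal] {B : Set (IrrCharacter G)}
    (hB : IsPBlock M B) :
    MonoidAlgebra.mapDomainRingHom (ResK M) (QuotientGroup.mk' N) (eG hM B) =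
      eG hM (downSet N B) := by
  classical
  ext q
  obtain ⟨x, rfl⟩ := QuotientGroup.mk_surjective q
  rw [eG, eG, coeff_redFun hM (blockCoeff_downSet_mem hM N hB _)]
  have hm : ∀ n : N, blockCoeff B ((n : G) * x) ∈ Blocks.lRing hM := fun n => blockCoeff_mem hM hB _
  rw [show (⟨blockCoeff (downSet N B) (x : G ⧸ N), blockCoeff_downSet_mem hM N hB _⟩ : Blocks.lRing hM) =
      ∑ n : N, ⟨blockCoeff B ((n : G) * x), hm n⟩ from Subtype.ext (by
        rw [AddSubmonoidClass.coe_finsetSum]; exact (sum_blockCoeff_coset N B x).symm), map_sum]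
  show (Finsupp.mapDomain (QuotientGroup.mk' N) (redFun hM (blockCoeff B)).coeff) (x : G ⧸ N) = _
  rw [Finsupp.mapDomain, Finsupp.sum_apply, Finsupp.sum_fintype _ _ (by simp)]
  simp only [Finsupp.single_apply]
  rw [← Finset.sum_filter]
  refine (Finset.sum_bij (fun (n : N) _ => (n : G) * x) ?_ ?_ ?_ ?_).symm
  · intro n _
    refine Finset.mem_filter.2 ⟨Finset.mem_univ _, ?_⟩
    show ((n : G) * x : G ⧸ N) = (x : G ⧸ N)
    rw [(QuotientGroup.eq_one_iff _).2 n.2, one_mul]
  · exact fun n _ n' _ h => Subtype.ext (mul_right_cancel h)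
  · intro y hy
    refine ⟨⟨y * x⁻¹, ?_⟩, Finset.mem_univ _, inv_mul_cancel_right y x⟩
    have h : (y : G ⧸ N) = (x : G ⧸ N) := (Finset.mem_filter.1 hy).2
    rw [← QuotientGroup.eq_one_iff, QuotientGroup.mk_mul, QuotientGroup.mk_inv, h, mul_inv_cancel]
  · intro n _
    rw [coeff_redFun hM (hm n)]

/-- A block of the quotient meeting the image of the idempotent of `B` inflates into `B`. -/
theorem infl_mem_of_mul_ne_zero (hM : IsPModular p M) (N : Subgroup G) [N.Normal]
    {B : Set (IrrCharacter G)} (hB : IsPBlock M B) {Bbar : Set (IrrCharacter (G ⧸ N))}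
    (hBbar : IsPBlock M Bbar)
    (h : eG hM (downSet N B) * eG hM Bbar ≠ 0) : ∀ η ∈ Bbar, Chars17.infl N η ∈ B := by
  classical
  letI : Fintype (G ⧸ N) := Fintype.ofFinite _
  intro η hη
  by_contra hcon
  apply h
  have hempty : downSet N B ∩ Bbar = ∅ := by
    refine Set.eq_empty_iff_forall_notMem.2 fun ψ hψ => hcon ?_
    exact (Blocks.IsPBlock.mem_iff hM hB hψ.1 _).2
      (BlockCover.sameBlock_infl N hM ((Blocks.IsPBlock.mem_iff hM hBbar hψ.2 η).1 hη))
  rw [eG_eq_redFun, eG_eq_redFun, ← redFun_mul hM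
    (fun x => by rw [Blocks.coeff_blockIdem]; exact blockCoeff_downSet_mem hM N hB x)
    (fun x => by rw [Blocks.coeff_blockIdem]; exact blockCoeff_mem hM hBbar x),
    Blocks.blockIdem_mul, hempty, ← eG_eq_redFun, ModRep.eG_empty]

/-- The regular stabiliser of the root block centralises the defect group. -/
theorem regular_stab_le (hM : IsPModular p M) {B : Set (IrrCharacter G)} (hB : IsPBlock M B)
    {D : Subgroup G} [hDn : D.Normal] (hD : IsDefectGroup p M B D)
    {e : MonoidAlgebra (ResK M) G} (he : IsBlockIdem (cz D) e)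
    (hcov : brMap (ResK M) D (eG hM B) * e = e)
    (hquot : ∀ (Bbar : Set (IrrCharacter (G ⧸ ⁅D, D⁆))), IsPBlock M Bbar →
      IsDefectGroup p M Bbar (D.map (QuotientGroup.mk' ⁅D, D⁆)) →
      (∀ η ∈ Bbar, Chars17.infl ⁅D, D⁆ η ∈ B) → IsNilpotentBlock p M Bbar)
    {g : G} (hg : ¬ p ∣ orderOf g) (hge : conjA g e = e) : g ∈ cz D := by
  classical
  set N : Subgroup G := ⁅D, D⁆ with hNdef
  set π := QuotientGroup.mk' N
  letI : Fintype (G ⧸ N) := Fintype.ofFinite _
  let _ : ∀ K : Subgroup (G ⧸ N), Fintype K := fun K => Fintype.ofFinite K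
  have := charP_res hM
  have hD0 := (isDefectGroup_iff hM hB D).1 hD
  have hDp := hD0.pgroup
  have hND : N ≤ D := Subgroup.commutator_le.2 fun a ha b hb =>
    D.mul_mem (D.mul_mem (D.mul_mem ha hb) (D.inv_mem ha)) (D.inv_mem hb)
  set Db := D.map π with hDb
  haveI : Db.Normal := hDn.map π (QuotientGroup.mk'_surjective N)
  have hDbp : IsPGroup p Db := hDp.map π
  have hDab : ∀ a ∈ Db, ∀ b ∈ Db, a * b = b * a := by
    rintro _ ⟨a, ha, rfl⟩ _ ⟨b, hb, rfl⟩
    have h1 : π (a * b * a⁻¹ * b⁻¹) = 1 :=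
      (QuotientGroup.eq_one_iff _).2 (Subgroup.commutator_mem_commutator ha hb)
    rwa [map_mul, map_mul, map_inv, map_inv, mul_inv_eq_one, mul_inv_eq_iff_eq_mul] at h1
  have hDbc : Db ≤ cz Db := fun a ha => mem_cz.2 fun b hb => hDab b hb a ha
  have hCmap : ∀ y ∈ cz D, π y ∈ cz Db := by
    intro y hy
    refine mem_cz.2 ?_
    rintro _ ⟨d, hd, rfl⟩
    rw [← map_mul, ← map_mul, mem_cz.1 hy d hd]
  -- regular elements over the centraliser centralise `D`
  have hcop : ∀ y : G, ¬ p ∣ orderOf y → π y ∈ cz Db → y ∈ cz D := by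
    intro y hy hyK
    refine Coprime.le_centralizer_of_trivial_on_frattini (Subgroup.zpowers y) D
      (by rw [Subgroup.normalizer_eq_top]; exact le_top) ?_ ?_ (Subgroup.mem_zpowers y)
    · rw [Nat.card_zpowers]
      obtain ⟨i, hi⟩ := (hDp.to_subgroup (frattini D)).exists_card_eq
      rw [hi]
      exact Nat.Coprime.pow_right _ (hp.out.coprime_iff_not_dvd.2 hy).symm
    · rintro a ha d hd
      obtain ⟨i, rfl⟩ := Subgroup.mem_zpowers_iff.1 ha
      have hmem : y ^ i * d * (y ^ i)⁻¹ * d⁻¹ ∈ N := by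
        rw [← QuotientGroup.eq_one_iff]
        show π _ = 1
        have hc := mem_cz.1 ((cz Db).zpow_mem hyK i) (π d) ⟨d, hd, rfl⟩
        rw [map_mul, map_mul, map_mul, map_inv, map_inv, map_zpow, ← hc, mul_inv_cancel_right,
          mul_inv_cancel]
      rw [hNdef, ← Subgroup.map_subtype_commutator] at hmem
      exact Subgroup.map_mono (PGroup.commutator_le_frattini hDp) hmem
  have hsurj : ∀ q ∈ cz Db, ¬ p ∣ orderOf q → q ∈ (cz D).map π := fun q hq hqr =>
    ⟨CentralQuot.lift N p q, hcop _ (CentralQuot.regular_lift N q)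
      (by show (QuotientGroup.mk _ : G ⧸ N) ∈ cz Db; rw [CentralQuot.mk_lift N hqr]; exact hq),
      CentralQuot.mk_lift N hqr⟩
  -- the image of the root block
  have hZp : IsPGroup p (cz D ⊓ π.ker : Subgroup G) :=
    hDp.to_le (inf_le_right.trans (by rw [QuotientGroup.ker_mk']; exact hND))
  have hZc : ∀ z ∈ cz D ⊓ π.ker, ∀ y ∈ cz D, y * z = z * y := fun z hz y hy =>
    (mem_cz.1 hy z (hND (by simpa [π] using hz.2))).symm
  obtain ⟨hne, hprim⟩ := map_blockIdem π hZp hZc he
  set F := MonoidAlgebra.mapDomainRingHom (ResK M) π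
  have hFconj : ∀ (y : G) (a : MonoidAlgebra (ResK M) G), F (conjA y a) = conjA (π y) (F a) := by
    intro y a
    rw [conjA, map_mul, map_mul, conjA]
    congr 1
    · congr 1; exact MonoidAlgebra.mapDomain_single
    · refine MonoidAlgebra.mapDomain_single.trans ?_; rw [map_inv]
  set K := (cz Db).comap π with hK
  haveI : K.Normal := (Subgroup.normal_centralizer (H := Db)).comap π
  have hKN : K ≤ Subgroup.normalizer (cz D : Set G) := fun y _ =>
    normalizer_le_normalizer_cz D (by rw [Subgroup.normalizer_eq_top]; exact Subgroup.mem_top y)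
  set z := orbitSum K e with hz
  set u := F z with hu
  have huu : u * u = u := by rw [hu, ← map_mul, orbitSum_idem he hKN]
  have hue : u * F e = F e := by rw [hu, ← map_mul, orbitSum_mul_self he hKN]
  have hsuppMap : ∀ a ∈ suppAlg (ResK M) (cz D), F a ∈ suppAlg (ResK M) ((cz D).map π) := by
    intro a ha
    rw [← sum_coeff_single a, Finsupp.sum, map_sum]
    refine (suppAlg _ _).sum_mem fun y hy => ?_
    show MonoidAlgebra.mapDomain π _ ∈ _
    rw [MonoidAlgebra.mapDomain_single]
    exact single_mem_suppAlg (Subgroup.mem_map_of_mem π (ha y (Finsupp.mem_support_iff.1 hy))) _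
  have hus : u ∈ suppAlg (ResK M) (cz Db) := fun q hq => by
    obtain ⟨y, hy, rfl⟩ := hsuppMap _ (orbitSum_supp he hKN) q hq
    exact hCmap y hy
  have huf : u ∈ fixAlg (ResK M) (cz Db) := fun q hq => by
    obtain ⟨y, rfl⟩ := QuotientGroup.mk'_surjective N q
    rw [hu, ← hFconj, orbitSum_fixed y hq]
  have hu0 : u ≠ 0 := fun h => hne (by rw [← hue, h, zero_mul])
  -- it is a block
  obtain ⟨eb, heb, hueb⟩ := exists_block_le (hasBlocks hM) hus huf huu hu0
  obtain ⟨cb, hcb, rfl⟩ := exists_eA_eq hM heb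
  set eb := eA hM (cz Db) cb with hebdef
  have hebs : eb ∈ suppAlg (ResK M) ((cz D).map π) := by
    intro q hq
    have hqc : q ∈ cz Db := heb.supp q hq
    refine hsurj q hqc fun hsing => hq ?_
    have hsing' : p ∣ orderOf (⟨q, hqc⟩ : cz Db) := by rwa [Subgroup.orderOf_mk]
    show (eA hM (cz Db) cb).coeff q = 0
    rw [← inclA_eG, show q = ((⟨q, hqc⟩ : cz Db) : G ⧸ N) from rfl, coeff_inclA, eG,
      coeff_redFun hM (blockCoeff_mem hM hcb _)]
    rw [resK_eq_zero_iff]
    show MemLocalIdeal M (blockCoeff cb ⟨q, hqc⟩)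
    rw [Blocks.blockCoeff_eq_zero_of_singular hM hcb hsing']
    exact Blocks.memLocalIdeal_zero hM
  have hle : (cz D).map π ≤ cz Db := by rintro _ ⟨y, hy, rfl⟩; exact hCmap y hy
  have hebu : eb = u := by
    have hcomm : u * eb = eb * u := (commute_of_supp_fix hus heb.fixed).eq
    rcases hprim eb heb.idem hebs (fixAlg_anti hle heb.fixed) with h | h
    · exfalso
      refine heb.ne_zero ?_
      rw [← hueb, hcomm, hu, hz, orbitSum, map_sum, Finset.mul_sum]
      refine Finset.sum_eq_zero fun a ha => ?_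
      obtain ⟨y, rfl⟩ := (Set.Finite.mem_toFinset _).1 ha
      rw [hFconj]
      calc eb * conjA (π (y : G)) (F e) = conjA (π (y : G)) (eb * F e) := by
            rw [conjA_mul, heb.fixed (π (y : G)) y.2]
        _ = 0 := by rw [h, conjA_zero]
    · rw [← hueb, hcomm]
      conv_lhs => rw [hu, hz, orbitSum, map_sum, Finset.mul_sum]
      conv_rhs => rw [hu, hz, orbitSum, map_sum]
      refine Finset.sum_congr rfl fun a ha => ?_
      obtain ⟨y, rfl⟩ := (Set.Finite.mem_toFinset _).1 ha
      rw [hFconj]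
      calc eb * conjA (π (y : G)) (F e) = conjA (π (y : G)) (eb * F e) := by
            rw [conjA_mul, heb.fixed (π (y : G)) y.2]
        _ = conjA (π (y : G)) (F e) := by rw [h]
  -- the block of the quotient
  obtain ⟨Bbar, hind⟩ := Blocks.inducedBlockDefined hM hDbp hDbc le_rfl (cz_le_normalizer Db) hcb
  have hpair : IsBrauerPairOf p M Bbar Db cb := isBrauerPairOf_of_isInducedBlock hM hDbp hind
  have hBbar : IsPBlock M Bbar := hind.2.1
  obtain ⟨-, -, hOb⟩ := (isBrauerPairOf_iff hM Bbar Db cb).1 hpair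
  have hself : ∀ {A : Set (IrrCharacter (G ⧸ N))}, IsPBlock M A →
      brMap (ResK M) Db (eG hM A) = eG hM A := fun {A} hA => brMap_eq_self fun q hq => by
    by_contra hqc
    refine hq ?_
    rw [eG, coeff_redFun hM (blockCoeff_mem hM hA q), resK_eq_zero_iff]
    show MemLocalIdeal M (blockCoeff A q)
    rw [BlockNormalP.blockCoeff_eq_zero hM Db hDbp hA hqc]
    exact Blocks.memLocalIdeal_zero hM
  have hcovb : eG hM Bbar * u = u := by
    have h := hOb.cover
    rwa [hself hBbar, ← hebdef, hebu] at h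
  have hselfG : brMap (ResK M) D (eG hM B) = eG hM B := brMap_eq_self fun q hq => by
    by_contra hqc
    refine hq ?_
    rw [eG, coeff_redFun hM (blockCoeff_mem hM hB q), resK_eq_zero_iff]
    show MemLocalIdeal M (blockCoeff B q)
    rw [BlockNormalP.blockCoeff_eq_zero hM D hDp hB hqc]
    exact Blocks.memLocalIdeal_zero hM
  have hEz : eG hM B * z = z := by
    rw [hselfG] at hcov
    rw [hz, orbitSum, Finset.mul_sum]
    refine Finset.sum_congr rfl fun a ha => ?_
    obtain ⟨y, rfl⟩ := (Set.Finite.mem_toFinset _).1 ha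
    conv_lhs => rw [← (isBlockIdem_eG hM hB).fixed (y : G) (Subgroup.mem_top _)]
    rw [← conjA_mul, hcov]
  have hdown : eG hM (downSet N B) * u = u := by
    rw [← mapDomain_eG hM N hB, hu, ← map_mul, hEz]
  have hinfl : ∀ η ∈ Bbar, Chars17.infl N η ∈ B := by
    refine infl_mem_of_mul_ne_zero hM N hB hBbar fun h => hu0 ?_
    rw [← hdown, ← hcovb, ← mul_assoc, h, zero_mul]
  have hdef : IsDefectGroup p M Bbar Db := by
    obtain ⟨D1, hD1⟩ := BrauerPairs.exists_defectGroup hM hBbar
    have hD10 := (isDefectGroup_iff hM hBbar D1).1 hD1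
    obtain ⟨P, hP, hD1P⟩ := BlockCover.defect_le_map N hM hBbar hB hinfl hD1
    obtain ⟨t, rfl⟩ := BlockCover.defectGroup_conjugate hM hB hD hP
    rw [map_conj_eq_self ((Subgroup.normalizer_eq_top (H := D)).symm ▸ Subgroup.mem_top t)] at hD1P
    obtain ⟨s, -, hs⟩ := (brSetup_block hM hBbar).exists_le_conj hD10.inTr hDbp le_top
      ((brSetup_block hM hBbar).brMap_ne_zero hOb)
    have hcard : Nat.card Db ≤ Nat.card D1 := (Subgroup.card_le_of_le hs).trans
      (Subgroup.card_map_of_injective (MulAut.conj s).injective).le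
    have heq : D1 = Db := Subgroup.eq_of_le_of_card_ge hD1P hcard
    rwa [← heq]
  -- nilpotency
  have hnil := hquot Bbar hBbar hdef hinfl
  have hgN : π g ∈ Subgroup.normalizer (Db : Set (G ⧸ N)) := by
    rw [Subgroup.normalizer_eq_top]; exact Subgroup.mem_top _
  refine hcop g hg (hnil.2 Db cb hpair (π g) hgN
    ((stabilizesBlock_iff_conjA hM (normalizer_le_normalizer_cz Db hgN) hcb).2 ?_) ?_)
  · rw [← hebdef, hebu, hu, ← hFconj, hz, conjA_orbitSum (H := K) ?_ ⟨1, K.one_mem, by
      rw [hge, conjA_one_left]⟩]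
    rw [Subgroup.normalizer_eq_top]; exact Subgroup.mem_top g
  · exact fun h => hg (h.trans (orderOf_map_dvd π g))

end CfsgLib.NormalEqual
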